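import Mathlib

/-!
A finite group with exactly two conjugacy classes of maximal subgroups is soluble with two primes.
If `p` divides the index of `M₁`, a `p`-subgroup larger than those of `M₁` lies in a single
conjugate of `M₂`; hence each index divides the other one minus one.
-/

set_option autoImplicit false

namespace H66.TwoMax

open Subgroup
open scoped Pointwise

variable {G : Type*} [Group G] [Finite G]

/-- Every maximal subgroup is conjugate to one of the two given subgroups. -/
def Cover (M₁ M₂ : Subgroup G) : Prop :=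
  ∀ M : Subgroup G, IsCoatom M → ∃ g : G, M = MulAut.conj g • M₁ ∨ M = MulAut.conj g • M₂

theorem Cover.symm {M₁ M₂ : Subgroup G} (h : Cover M₁ M₂) : Cover M₂ M₁ := fun M hM => by
  obtain ⟨g, hg⟩ := h M hM
  exact ⟨g, hg.symm⟩

theorem card_conj_smul (g : G) (M : Subgroup G) :
    Nat.card (MulAut.conj g • M : Subgroup G) = Nat.card M :=
  (Nat.card_congr (Subgroup.equivSMul (MulAut.conj g) M).toEquiv).symm

theorem index_conj_smul (g : G) (M : Subgroup G) :
    (MulAut.conj g • M : Subgroup G).index = M.index := by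
  have h1 := (MulAut.conj g • M : Subgroup G).card_mul_index
  rw [card_conj_smul, ← M.card_mul_index] at h1
  exact Nat.eq_of_mul_eq_mul_left Nat.card_pos h1

omit [Finite G] in
theorem conj_smul_le_iff {g : G} {A B : Subgroup G} :
    A ≤ MulAut.conj g • B ↔ ∀ a ∈ A, g⁻¹ * a * g ∈ B := by
  refine forall₂_congr fun a _ => ?_
  rw [mem_pointwise_smul_iff_inv_smul_mem, ← map_inv, MulAut.smul_def, MulAut.conj_apply, inv_inv]

/-- No nontrivial normal subgroup of prime power order. -/
def CoreFree (G : Type*) [Group G] : Prop :=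
  ∀ p : ℕ, p.Prime → ∀ N : Subgroup G, N.Normal → IsPGroup p N → N = ⊥

omit [Finite G] in
theorem normalizer_ne_top (hG : CoreFree G) {p : ℕ} [hp : Fact p.Prime] {D : Subgroup G}
    (hD : IsPGroup p D) (hne : D ≠ ⊥) : normalizer (D : Set G) ≠ ⊤ := fun h =>
  hne (hG p hp.out D (normalizer_eq_top_iff.mp h) hD)

/-- A `p`-subgroup larger than those of `M₁` has its normaliser in a conjugate of `M₂`. -/
theorem normalizer_le (hG : CoreFree G) {M₁ M₂ : Subgroup G} (hc : Cover M₁ M₂) {p : ℕ}
    [hp : Fact p.Prime] {D : Subgroup G} (hD : IsPGroup p D)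
    (hbig : ∀ E : Subgroup G, IsPGroup p E → E ≤ M₁ → Nat.card E < Nat.card D) :
    ∃ h : G, normalizer (D : Set G) ≤ MulAut.conj h • M₂ := by
  have hne : D ≠ ⊥ := by
    rintro rfl
    have := hbig ⊥ hD bot_le
    omega
  obtain ⟨K, hK, hle⟩ :=
    (eq_top_or_exists_le_coatom _).resolve_left (normalizer_ne_top hG hD hne)
  obtain ⟨h, rfl | rfl⟩ := hc K hK
  · exfalso
    have hDK : D ≤ MulAut.conj h • M₁ := le_normalizer.trans hle
    have h1 : (MulAut.conj h)⁻¹ • D ≤ M₁ := by
      rw [pointwise_smul_subset_iff, inv_inv]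
      exact hDK
    have h2 := hbig ((MulAut.conj h)⁻¹ • D) (hD.of_equiv (equivSMul _ D)) h1
    rw [← map_inv, card_conj_smul] at h2
    omega
  · exact ⟨h, hle⟩

/-- If `p`-subgroups of `M₂` reach the full power of `p`, every larger `p`-subgroup than those
of `M₁` lies in at most one coset conjugate of `M₂`. -/
theorem mem_of_big (hG : CoreFree G) {M₁ M₂ : Subgroup G} (hc : Cover M₁ M₂) {p : ℕ}
    [hp : Fact p.Prime] (P : Sylow p G) (hP : (P : Subgroup G) ≤ M₂) :
    ∀ (k : ℕ) (D : Subgroup G), Nat.card P ≤ Nat.card D + k → IsPGroup p D →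
      (∀ E : Subgroup G, IsPGroup p E → E ≤ M₁ → Nat.card E < Nat.card D) →
      ∀ g : G, D ≤ M₂ → D ≤ MulAut.conj g • M₂ → g ∈ M₂ := by
  intro k
  induction k using Nat.strong_induction_on with
  | _ k ih =>
    intro D hk hD hbig g hD2 hDg
    obtain ⟨h, hN⟩ := normalizer_le hG hc hD hbig
    have hDh : D ≤ MulAut.conj h • M₂ := le_normalizer.trans hN
    -- conjugates of a full Sylow subgroup inside `M₂`
    have full : ∀ S : Sylow p G, D = S → ∀ x : G, D ≤ MulAut.conj x • M₂ →
        ∃ y ∈ M₂, x * y ∈ normalizer (D : Set G) := by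
      intro S hS x hx
      let D' : Sylow p G := x⁻¹ • S
      have hD' : (D' : Subgroup G) ≤ M₂ := by
        show ((x⁻¹ • S : Sylow p G) : Subgroup G) ≤ M₂
        rw [Sylow.coe_subgroup_smul, ← hS, map_inv, pointwise_smul_subset_iff, inv_inv]
        exact hx
      have hS2 : (S : Subgroup G) ≤ M₂ := hS ▸ hD2
      obtain ⟨y, hy⟩ := MulAction.exists_smul_eq M₂ (S.subtype hS2) (D'.subtype hD')
      rw [Sylow.smul_subtype hS2] at hy
      have hy' := Sylow.subtype_injective hy
      refine ⟨y, y.2, ?_⟩
      rw [hS]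
      apply Sylow.smul_eq_iff_mem_normalizer.mp
      have hy'' : (y : G) • S = x⁻¹ • S := hy'
      rw [mul_smul, hy'', smul_inv_smul]
    by_cases hfull : ∃ S : Sylow p G, D = S
    · obtain ⟨S, hS⟩ := hfull
      obtain ⟨y, hy, hxy⟩ := full S hS h hDh
      have h1 : h⁻¹ * (h * y) * h ∈ M₂ := conj_smul_le_iff.mp hN _ hxy
      have hh : h ∈ M₂ := by
        have : y * h ∈ M₂ := by simpa [mul_assoc] using h1
        exact (M₂.mul_mem_cancel_left hy).mp this
      have hN2 : normalizer (D : Set G) ≤ M₂ := fun z hz => by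
        have := conj_smul_le_iff.mp hN z hz
        simpa [mul_assoc] using M₂.mul_mem (M₂.mul_mem hh this) (M₂.inv_mem hh)
      obtain ⟨z, hz, hgz⟩ := full S hS g hDg
      exact (M₂.mul_mem_cancel_right hz).mp (hN2 hgz)
    · -- `D` is not a full Sylow subgroup: its normaliser grows in both conjugates
      have grow : ∀ x : G, D ≤ MulAut.conj x • M₂ → ∃ D' : Subgroup G, IsPGroup p D' ∧
          D' ≤ MulAut.conj x • M₂ ∧ D' ≤ normalizer (D : Set G) ∧ D ≤ D' ∧
          Nat.card D < Nat.card D' := by
        intro x hx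
        let Px : Sylow p G := x • P
        have hPx : (Px : Subgroup G) ≤ MulAut.conj x • M₂ := by
          show ((x • P : Sylow p G) : Subgroup G) ≤ MulAut.conj x • M₂
          rw [Sylow.coe_subgroup_smul]
          exact pointwise_smul_le_pointwise_smul_iff.mpr hP
        obtain ⟨T, hT⟩ := IsPGroup.exists_le_sylow
          (hD.comap_subtype (K := MulAut.conj x • M₂))
        obtain ⟨y, hy⟩ := MulAction.exists_smul_eq (MulAut.conj x • M₂ : Subgroup G)
          (Px.subtype hPx) T
        rw [Sylow.smul_subtype hPx] at hy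
        let S : Sylow p G := (y : G) • Px
        have hS2 : (S : Subgroup G) ≤ MulAut.conj x • M₂ :=
          Subgroup.conj_smul_le_of_le hPx y
        have hDS : D ≤ (S : Subgroup G) := fun d hd => by
          have h1 : (⟨d, hx hd⟩ : (MulAut.conj x • M₂ : Subgroup G)) ∈ (T : Subgroup _) :=
            hT (show d ∈ D from hd)
          rw [← hy] at h1
          exact h1
        have hlt : D < (S : Subgroup G) := lt_of_le_of_ne hDS fun e => hfull ⟨S, e⟩
        haveI : Group.IsNilpotent (S : Subgroup G) := S.2.isNilpotent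
        have hlt' : D.subgroupOf (S : Subgroup G) < ⊤ :=
          lt_top_iff_ne_top.mpr fun e => hlt.not_ge (subgroupOf_eq_top.mp e)
        have hgrow := Group.normalizerCondition_of_isNilpotent
          (D.subgroupOf (S : Subgroup G)) hlt'
        refine ⟨(normalizer ((D.subgroupOf (S : Subgroup G)) : Set (S : Subgroup G))).map
          (S : Subgroup G).subtype, S.2.to_le (map_subtype_le _),
          (map_subtype_le _).trans hS2, ?_, ?_, ?_⟩
        · rintro _ ⟨z, hz, rfl⟩
          rw [mem_normalizer_iff]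
          intro d
          constructor
          · intro hd
            exact ((mem_normalizer_iff.mp hz) ⟨d, hDS hd⟩).mp hd
          · intro hd
            have hd' : (z : G) * d * (z : G)⁻¹ ∈ (S : Subgroup G) := hDS hd
            have hdS : d ∈ (S : Subgroup G) := by
              simpa [mul_assoc] using
                S.toSubgroup.mul_mem (S.toSubgroup.mul_mem (S.toSubgroup.inv_mem z.2) hd') z.2
            exact ((mem_normalizer_iff.mp hz) ⟨d, hdS⟩).mpr hd
        · intro d hd
          exact ⟨⟨d, hDS hd⟩, le_normalizer (show d ∈ D from hd), rfl⟩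
        · have h1 : (D.subgroupOf (S : Subgroup G)).map (S : Subgroup G).subtype = D := by
            rw [map_subgroupOf_eq_of_le hDS]
          have h2 := Nat.card_congr
            (equivMapOfInjective (D.subgroupOf (S : Subgroup G)) _ (S : Subgroup G).subtype_injective).toEquiv
          rw [h1] at h2
          rw [← h2, ← Nat.card_congr (equivMapOfInjective _ _
            (S : Subgroup G).subtype_injective).toEquiv]
          exact lt_of_le_of_ne (card_le_of_le hgrow.le)
            fun e => hgrow.ne (eq_of_le_of_card_ge hgrow.le e.ge)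
      have hP' : ∀ D' : Subgroup G, IsPGroup p D' → Nat.card D' ≤ Nat.card P := by
        intro D' hD'
        obtain ⟨S, hS⟩ := hD'.exists_le_sylow
        exact (card_le_of_le hS).trans (le_of_eq (Sylow.card_eq_multiplicity S ▸
          (Sylow.card_eq_multiplicity P).symm))
      have step : ∀ x : G, D ≤ MulAut.conj x • M₂ → normalizer (D : Set G) ≤ M₂ →
          x ∈ M₂ := by
        intro x hx hN2
        obtain ⟨D', hD', hD'x, hD'N, -, hlt⟩ := grow x hx
        have := hP' D' hD'
        exact ih (k - 1) (by omega) D' (by omega) hD'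
          (fun E hE hE1 => (hbig E hE hE1).trans hlt) x (hD'N.trans hN2) hD'x
      have hh : h ∈ M₂ := by
        obtain ⟨D', hD', hD'2, hD'N, -, hlt⟩ := grow 1 (by simpa using hD2)
        have hle := hP' D' hD'
        exact ih (k - 1) (by omega) D' (by omega) hD'
          (fun E hE hE1 => (hbig E hE hE1).trans hlt) h (by simpa using hD'2) (hD'N.trans hN)
      refine step g hDg fun z hz => ?_
      simpa [mul_assoc] using
        M₂.mul_mem (M₂.mul_mem hh (conj_smul_le_iff.mp hN z hz)) (M₂.inv_mem hh)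

/-- A full power of `p` in the index of `M₁` divides `|G : M₂| - 1`. -/
theorem pow_dvd_index_sub_one (hG : CoreFree G) {M₁ M₂ : Subgroup G} (hc : Cover M₁ M₂)
    {p v : ℕ} [hp : Fact p.Prime] (hv : p ^ v ∣ M₁.index) (h2 : ¬ p ∣ M₂.index) :
    p ^ v ∣ M₂.index - 1 := by
  classical
  obtain ⟨T⟩ : Nonempty (Sylow p M₂) := inferInstance
  obtain ⟨P, hTP⟩ := (T.2.map M₂.subtype).exists_le_sylow
  have hP : (P : Subgroup G) ≤ M₂ := by
    have hc1 : Nat.card ((T : Subgroup M₂).map M₂.subtype) = Nat.card P := by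
      rw [← Nat.card_congr (equivMapOfInjective _ _ M₂.subtype_injective).toEquiv,
        Sylow.card_eq_multiplicity, Sylow.card_eq_multiplicity]
      congr 1
      rw [← M₂.card_mul_index, Nat.factorization_mul Nat.card_pos.ne' index_ne_zero_of_finite,
        Finsupp.add_apply, Nat.factorization_eq_zero_of_not_dvd h2, add_zero]
    exact (eq_of_le_of_card_ge hTP hc1.ge).ge.trans (map_subtype_le _)
  let Ω := G ⧸ M₂
  have horb : ∀ ω : Ω, ω ≠ ((1 : G) : Ω) → p ^ v ∣ Nat.card (MulAction.orbit P ω) := by
    intro ω hω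
    obtain ⟨g, rfl⟩ := QuotientGroup.mk_surjective ω
    have hg : g ∉ M₂ := fun hg => hω (QuotientGroup.eq.mpr (by simpa using hg))
    set D : Subgroup G := (MulAction.stabilizer P (g : Ω)).map (P : Subgroup G).subtype with hDdef
    have hDp : IsPGroup p D := P.2.to_le (map_subtype_le _)
    have hDg : D ≤ MulAut.conj g • M₂ := by
      rw [conj_smul_le_iff]
      rintro _ ⟨d, hd, rfl⟩
      have h3 : (((d : G) * g : G) : Ω) = (g : Ω) := hd
      have h4 := QuotientGroup.eq.mp h3.symm
      simpa [mul_assoc] using h4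
    obtain ⟨E, hEp, hE1, hle⟩ : ∃ E : Subgroup G, IsPGroup p E ∧ E ≤ M₁ ∧
        Nat.card D ≤ Nat.card E := by
      by_contra hcon
      push Not at hcon
      exact hg (mem_of_big hG hc P hP (Nat.card P) D (by omega) hDp hcon g
        ((map_subtype_le _).trans hP) hDg)
    have hPG : Nat.card P = p ^ (Nat.card G).factorization p := Sylow.card_eq_multiplicity P
    obtain ⟨e, he⟩ := IsPGroup.iff_card.mp hEp
    obtain ⟨d, hd⟩ := IsPGroup.iff_card.mp hDp
    have h5 : p ^ (e + v) ∣ Nat.card G := by
      rw [← M₁.card_mul_index, pow_add, ← he]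
      exact mul_dvd_mul (card_dvd_of_le hE1) hv
    have h6 : e + v ≤ (Nat.card G).factorization p :=
      (hp.out.pow_dvd_iff_le_factorization Nat.card_pos.ne').mp h5
    have hde : d ≤ e := by
      rw [hd, he] at hle
      exact (Nat.pow_le_pow_iff_right hp.out.one_lt).mp hle
    have h7 := (MulAction.stabilizer P (g : Ω)).card_mul_index
    rw [MulAction.index_stabilizer, Nat.card_congr (equivMapOfInjective _ _
      (P : Subgroup G).subtype_injective).toEquiv, ← hDdef, hd, hPG,
      ← Nat.card_coe_set_eq] at h7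
    have h8 : p ^ d * p ^ v ∣ p ^ d * Nat.card (MulAction.orbit P (g : Ω)) := by
      rw [h7, ← pow_add]
      exact pow_dvd_pow p (by omega)
    exact (Nat.mul_dvd_mul_iff_left (pow_pos hp.out.pos d)).mp h8
  haveI : Fintype (MulAction.orbitRel.Quotient P Ω) := Fintype.ofFinite _
  have hsum : M₂.index = ∑ q : MulAction.orbitRel.Quotient P Ω,
      Nat.card (MulAction.orbitRel.Quotient.orbit q) := by
    rw [← Nat.card_sigma]
    exact Nat.card_congr (MulAction.selfEquivSigmaOrbits' P Ω)
  let q₀ : MulAction.orbitRel.Quotient P Ω := Quotient.mk'' ((1 : G) : Ω)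
  have h0 : Nat.card (MulAction.orbitRel.Quotient.orbit q₀) = 1 := by
    rw [MulAction.orbitRel.Quotient.orbit_mk]
    haveI : Subsingleton (MulAction.orbit P ((1 : G) : Ω)) := by
      constructor
      rintro ⟨_, a, rfl⟩ ⟨_, b, rfl⟩
      apply Subtype.ext
      show (((a : G) * 1 : G) : Ω) = (((b : G) * 1 : G) : Ω)
      exact QuotientGroup.eq.mpr (by simpa using M₂.mul_mem (M₂.inv_mem (hP a.2)) (hP b.2))
    haveI : Nonempty (MulAction.orbit P ((1 : G) : Ω)) := ⟨⟨_, MulAction.mem_orbit_self _⟩⟩
    exact Nat.card_unique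
  rw [hsum, ← Finset.add_sum_erase Finset.univ _ (Finset.mem_univ q₀), h0, Nat.add_sub_cancel_left]
  refine Finset.dvd_sum fun q hq => ?_
  induction q using Quotient.inductionOn' with
  | h ω =>
    rw [MulAction.orbitRel.Quotient.orbit_mk]
    refine horb ω fun e => (Finset.mem_erase.mp hq).1 ?_
    rw [e]

theorem sylow_avoids (hG : CoreFree G) {M₁ M₂ : Subgroup G} (hc : Cover M₁ M₂) {p : ℕ}
    [hp : Fact p.Prime] (h1 : p ∣ M₁.index) (h2 : p ∣ M₂.index) : False := by
  obtain ⟨P⟩ : Nonempty (Sylow p G) := inferInstance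
  have hne : (P : Subgroup G) ≠ ⊥ := P.ne_bot_of_dvd_card (h1.trans M₁.index_dvd_card)
  obtain ⟨K, hK, hle⟩ :=
    (eq_top_or_exists_le_coatom _).resolve_left (normalizer_ne_top hG P.2 hne)
  have h3 : ¬ p ∣ K.index := fun h =>
    P.not_dvd_index (h.trans (index_dvd_of_le (le_normalizer.trans hle)))
  obtain ⟨g, rfl | rfl⟩ := hc K hK <;> rw [index_conj_smul] at h3
  · exact h3 h1
  · exact h3 h2

theorem index_dvd_sub_one (hG : CoreFree G) {M₁ M₂ : Subgroup G} (hc : Cover M₁ M₂) :
    M₁.index ∣ M₂.index - 1 := by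
  rw [Nat.dvd_iff_prime_pow_dvd_dvd]
  intro p v hp hdvd
  haveI := Fact.mk hp
  rcases Nat.eq_zero_or_pos v with rfl | hv
  · simp
  exact pow_dvd_index_sub_one hG hc hdvd
    fun h => sylow_avoids hG hc ((dvd_pow_self p hv.ne').trans hdvd) h

theorem subsingleton_of_coreFree (hG : CoreFree G) {M₁ M₂ : Subgroup G} (hc : Cover M₁ M₂) :
    Subsingleton G := by
  have h1 := index_dvd_sub_one hG hc
  have h2 := index_dvd_sub_one hG hc.symm
  have p1 : 0 < M₁.index := Nat.pos_of_ne_zero index_ne_zero_of_finite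
  have p2 : 0 < M₂.index := Nat.pos_of_ne_zero index_ne_zero_of_finite
  have e1 : M₁.index = 1 ∧ M₂.index = 1 := by
    rcases Nat.eq_or_lt_of_le p2 with e | e
    · refine ⟨?_, e.symm⟩
      -- the only maximal subgroups are conjugates of `M₁`
      by_contra hne
      obtain ⟨p, hp, hpd⟩ := Nat.exists_prime_and_dvd hne
      haveI := Fact.mk hp
      have hM2 : M₂ = ⊤ := index_eq_one.mp e.symm
      have hc' : Cover M₁ M₁ := fun M hM => by
        obtain ⟨g, hg | hg⟩ := hc M hM
        · exact ⟨g, Or.inl hg⟩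
        · refine absurd ?_ hM.1
          rw [hg, hM2]
          exact eq_top_iff.mpr (conj_smul_le_iff.mpr fun _ _ => mem_top _)
      exact sylow_avoids hG hc' hpd hpd
    · rcases Nat.eq_or_lt_of_le p1 with e' | e'
      · exfalso
        obtain ⟨p, hp, hpd⟩ := Nat.exists_prime_and_dvd (show M₂.index ≠ 1 by omega)
        haveI := Fact.mk hp
        have hM1 : M₁ = ⊤ := index_eq_one.mp e'.symm
        have hc' : Cover M₂ M₂ := fun M hM => by
          obtain ⟨g, hg | hg⟩ := hc M hM
          · refine absurd ?_ hM.1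
            rw [hg, hM1]
            exact eq_top_iff.mpr (conj_smul_le_iff.mpr fun _ _ => mem_top _)
          · exact ⟨g, Or.inl hg⟩
        exact sylow_avoids hG hc' hpd hpd
      · exfalso
        have := Nat.le_of_dvd (by omega) h1
        have := Nat.le_of_dvd (by omega) h2
        omega
  by_contra hne
  rw [not_subsingleton_iff_nontrivial] at hne
  obtain ⟨K, hK, -⟩ := (eq_top_or_exists_le_coatom (⊥ : Subgroup G)).resolve_left bot_ne_top
  obtain ⟨g, hg | hg⟩ := hc K hK
  · exact hK.1 (by rw [hg, index_eq_one.mp e1.1]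
                   exact eq_top_iff.mpr (conj_smul_le_iff.mpr fun _ _ => mem_top _))
  · exact hK.1 (by rw [hg, index_eq_one.mp e1.2]
                   exact eq_top_iff.mpr (conj_smul_le_iff.mpr fun _ _ => mem_top _))

theorem isSolvable_of_cover : ∀ (k : ℕ) (G : Type*) [Group G] [Finite G], Nat.card G ≤ k →
    ∀ M₁ M₂ : Subgroup G, Cover M₁ M₂ → Group.IsSolvable G := by
  intro k
  induction k with
  | zero =>
    intro G _ _ hk
    exact absurd hk (Nat.not_le.mpr Nat.card_pos)
  | succ k ih =>
    intro G _ _ hk M₁ M₂ hc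
    by_cases hG : CoreFree G
    · haveI := subsingleton_of_coreFree hG hc
      infer_instance
    · unfold CoreFree at hG
      push Not at hG
      obtain ⟨p, hp, N, hN, hNp, hne⟩ := hG
      haveI := hN
      haveI := Fact.mk hp
      have hlt : Nat.card (G ⧸ N) < Nat.card G := by
        rw [card_eq_card_quotient_mul_card_subgroup N]
        exact lt_mul_of_one_lt_right Nat.card_pos (one_lt_card_iff_ne_bot N |>.mpr hne)
      have hq : Cover (M₁.map (QuotientGroup.mk' N)) (M₂.map (QuotientGroup.mk' N)) := by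
        intro M hM
        have hM' : IsCoatom (M.comap (QuotientGroup.mk' N)) := by
          refine ⟨fun e => hM.1 ?_, fun K hK => ?_⟩
          · rw [← map_comap_eq_self_of_surjective (QuotientGroup.mk'_surjective N) M, e,
              map_top_of_surjective _ (QuotientGroup.mk'_surjective N)]
          · have hNK : N ≤ K := le_trans (fun n hn => by
              rw [mem_comap, QuotientGroup.mk'_apply, (QuotientGroup.eq_one_iff n).mpr hn]
              exact M.one_mem) hK.le
            have hcm : (K.map (QuotientGroup.mk' N)).comap (QuotientGroup.mk' N) = K := by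
              rw [comap_map_eq, QuotientGroup.ker_mk', sup_eq_left.mpr hNK]
            have h1 : M < K.map (QuotientGroup.mk' N) := by
              refine lt_of_le_of_ne ?_ fun e => hK.ne ?_
              · rw [← map_comap_eq_self_of_surjective (QuotientGroup.mk'_surjective N) M]
                exact map_mono hK.le
              · rw [e, hcm]
            rw [← hcm, hM.2 _ h1, comap_top]
        obtain ⟨g, hg | hg⟩ := hc _ hM'
        · refine ⟨(g : G ⧸ N), Or.inl ?_⟩
          rw [← map_comap_eq_self_of_surjective (QuotientGroup.mk'_surjective N) M, hg]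
          ext x
          simp only [mem_map, mem_pointwise_smul_iff_inv_smul_mem, ← map_inv, MulAut.smul_def,
            MulAut.conj_apply, inv_inv]
          constructor
          · rintro ⟨y, hy, rfl⟩
            exact ⟨g⁻¹ * y * g, hy, by simp⟩
          · rintro ⟨y, hy, hxy⟩
            refine ⟨g * y * g⁻¹, by simpa [mul_assoc] using hy, ?_⟩
            rw [map_mul, map_mul, map_inv, hxy, QuotientGroup.mk'_apply]
            group
        · refine ⟨(g : G ⧸ N), Or.inr ?_⟩
          rw [← map_comap_eq_self_of_surjective (QuotientGroup.mk'_surjective N) M, hg]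
          ext x
          simp only [mem_map, mem_pointwise_smul_iff_inv_smul_mem, ← map_inv, MulAut.smul_def,
            MulAut.conj_apply, inv_inv]
          constructor
          · rintro ⟨y, hy, rfl⟩
            exact ⟨g⁻¹ * y * g, hy, by simp⟩
          · rintro ⟨y, hy, hxy⟩
            refine ⟨g * y * g⁻¹, by simpa [mul_assoc] using hy, ?_⟩
            rw [map_mul, map_mul, map_inv, hxy, QuotientGroup.mk'_apply]
            group
      haveI := ih (G ⧸ N) (by omega) _ _ hq
      haveI : Group.IsNilpotent N := hNp.isNilpotent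
      haveI : Group.IsSolvable N := inferInstance
      exact Group.isSolvable_of_ker_le_range N.subtype (QuotientGroup.mk' N)
        (by rw [QuotientGroup.ker_mk', range_subtype])

theorem exists_normal_isPGroup [Nontrivial G] [Group.IsSolvable G] :
    ∃ (q : ℕ) (_ : Fact q.Prime) (N : Subgroup G), N.Normal ∧ IsPGroup q N ∧ N ≠ ⊥ := by
  by_contra hcon
  push Not at hcon
  classical
  have hex : ∃ n, derivedSeries G n = ⊥ := (Group.isSolvable_def G).mp inferInstance
  have hn := Nat.find_spec hex
  rcases Nat.eq_zero_or_pos (Nat.find hex) with h0 | hpos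
  · rw [h0, derivedSeries_zero] at hn
    exact top_ne_bot hn
  obtain ⟨k, hk⟩ := Nat.exists_eq_succ_of_ne_zero hpos.ne'
  set A := derivedSeries G k with hA
  have hA1 : A ≠ ⊥ := Nat.find_min hex (by omega)
  rw [hk, derivedSeries_succ] at hn
  haveI : IsMulCommutative A := ⟨⟨fun a b => Subtype.ext (by
    have := hn ▸ commutator_mem_commutator a.2 b.2
    exact commutatorElement_eq_one_iff_mul_comm.mp (mem_bot.mp this))⟩⟩
  haveI : A.Normal := derivedSeries_normal G k
  obtain ⟨q, hq, hqd⟩ := Nat.exists_prime_and_dvd ((one_lt_card_iff_ne_bot A).mpr hA1).ne'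
  haveI := Fact.mk hq
  obtain ⟨Q⟩ : Nonempty (Sylow q A) := inferInstance
  haveI : (Q : Subgroup A).Normal := ⟨fun x hx g => by
    rwa [show g * x * g⁻¹ = x by rw [mul_comm' g x, mul_inv_cancel_right]]⟩
  haveI : (Q : Subgroup A).Characteristic := Q.characteristic_of_normal inferInstance
  refine Q.ne_bot_of_dvd_card hqd ((map_eq_bot_iff_of_injective _ A.subtype_injective).mp ?_)
  exact hcon q inferInstance ((Q : Subgroup A).map A.subtype) inferInstance (Q.2.map _)

/-- In a soluble group every prime divisor is the sole prime of some maximal subgroup index. -/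
theorem exists_coatom_index_prime_pow : ∀ (k : ℕ) (G : Type*) [Group G] [Finite G]
    [Group.IsSolvable G], Nat.card G ≤ k → ∀ p : ℕ, p.Prime → p ∣ Nat.card G →
    ∃ M : Subgroup G, IsCoatom M ∧ ∀ r : ℕ, r.Prime → r ∣ M.index → r = p := by
  intro k
  induction k with
  | zero =>
    intro G _ _ _ hk
    exact absurd hk (Nat.not_le.mpr Nat.card_pos)
  | succ k ih =>
    intro G _ _ _ hk p hp hpd
    haveI : Nontrivial G := Finite.one_lt_card_iff_nontrivial.mp
      (lt_of_lt_of_le hp.one_lt (Nat.le_of_dvd Nat.card_pos hpd))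
    obtain ⟨q, hq, N, hN, hNq, hne⟩ := exists_normal_isPGroup (G := G)
    haveI := hN
    by_cases hpq : p ∣ Nat.card (G ⧸ N)
    · have hlt : Nat.card (G ⧸ N) < Nat.card G := by
        rw [card_eq_card_quotient_mul_card_subgroup N]
        exact lt_mul_of_one_lt_right Nat.card_pos (one_lt_card_iff_ne_bot N |>.mpr hne)
      obtain ⟨M, hM, hMi⟩ := ih (G ⧸ N) (by omega) p hp hpq
      refine ⟨M.comap (QuotientGroup.mk' N), ⟨fun e => hM.1 ?_, fun K hK => ?_⟩, ?_⟩
      · rw [← map_comap_eq_self_of_surjective (QuotientGroup.mk'_surjective N) M, e,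
          map_top_of_surjective _ (QuotientGroup.mk'_surjective N)]
      · have hNK : N ≤ K := le_trans (fun n hn => by
          rw [mem_comap, QuotientGroup.mk'_apply, (QuotientGroup.eq_one_iff n).mpr hn]
          exact M.one_mem) hK.le
        have hcm : (K.map (QuotientGroup.mk' N)).comap (QuotientGroup.mk' N) = K := by
          rw [comap_map_eq, QuotientGroup.ker_mk', sup_eq_left.mpr hNK]
        have h1 : M < K.map (QuotientGroup.mk' N) := by
          refine lt_of_le_of_ne ?_ fun e => hK.ne ?_
          · rw [← map_comap_eq_self_of_surjective (QuotientGroup.mk'_surjective N) M]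
            exact map_mono hK.le
          · rw [e, hcm]
        rw [← hcm, hM.2 _ h1, comap_top]
      · rw [index_comap_of_surjective _ (QuotientGroup.mk'_surjective N)]
        exact hMi
    · -- `N` is a Sylow subgroup: its complement lies in a maximal subgroup
      obtain ⟨e, he⟩ := IsPGroup.iff_card.mp hNq
      have hpN : p ∣ Nat.card N := by
        rw [card_eq_card_quotient_mul_card_subgroup N] at hpd
        exact (hp.dvd_mul.mp hpd).resolve_left hpq
      have hpeq : p = q := (Nat.prime_dvd_prime_iff_eq hp hq.out).mp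
        (hp.dvd_of_dvd_pow (he ▸ hpN))
      have hco : (Nat.card N).Coprime N.index := by
        rw [he, ← hpeq]
        exact Nat.Coprime.pow_left _ (hp.coprime_iff_not_dvd.mpr hpq)
      obtain ⟨H, hH⟩ := exists_right_complement'_of_coprime hco
      have hHi : H.index = Nat.card N := hH.index_eq_card
      have hHt : H ≠ ⊤ := fun e' => hne (card_eq_one.mp (by rw [← hHi, e', index_top]))
      obtain ⟨M, hM, hHM⟩ := (eq_top_or_exists_le_coatom H).resolve_left hHt
      refine ⟨M, hM, fun r hr hrd => ?_⟩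
      have h1 : r ∣ p ^ e := by
        rw [hpeq, ← he, ← hHi]
        exact hrd.trans (index_dvd_of_le hHM)
      exact (Nat.prime_dvd_prime_iff_eq hr hp).mp (hr.dvd_of_dvd_pow h1)

theorem index_eq_index_of_cover {M₁ M₂ M : Subgroup G} (hc : Cover M₁ M₂) (hM : IsCoatom M) :
    M.index = M₁.index ∨ M.index = M₂.index := by
  obtain ⟨g, rfl | rfl⟩ := hc M hM <;> rw [index_conj_smul]
  · exact Or.inl rfl
  · exact Or.inr rfl

/-- A group of prime power order with two maximal subgroups has a third one. -/
theorem not_pGroup_two {p : ℕ} [hp : Fact p.Prime] (hG : IsPGroup p G) {M₁ M₂ : Subgroup G}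
    (h1 : IsCoatom M₁) (h2 : IsCoatom M₂) (hne : M₁ ≠ M₂) (hc : Cover M₁ M₂) : False := by
  haveI : Group.IsNilpotent G := hG.isNilpotent
  have hnorm : ∀ M : Subgroup G, IsCoatom M → M.Normal := fun M hM =>
    NormalizerCondition.normal_of_coatom M Group.normalizerCondition_of_isNilpotent hM
  haveI := hnorm _ h1
  haveI := hnorm _ h2
  have hpow : ∀ M : Subgroup G, IsCoatom M → ∀ x : G, x ^ p ∈ M := by
    intro M hM x
    haveI := hnorm M hM
    by_contra hx
    have hgen : ∀ z : G, z ∉ M → ∀ y : G ⧸ M, y ∈ zpowers (z : G ⧸ M) := by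
      intro z hz y
      have hlt : M < (zpowers (z : G ⧸ M)).comap (QuotientGroup.mk' M) := by
        refine lt_of_le_of_ne (fun n hn => ?_) fun e => hz ?_
        · rw [mem_comap, QuotientGroup.mk'_apply, (QuotientGroup.eq_one_iff n).mpr hn]
          exact one_mem _
        · rw [e]
          exact mem_zpowers (z : G ⧸ M)
      have htop := hM.2 _ hlt
      obtain ⟨y, rfl⟩ := QuotientGroup.mk_surjective y
      have : y ∈ (zpowers (z : G ⧸ M)).comap (QuotientGroup.mk' M) := htop ▸ mem_top y
      exact this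
    have hx0 : x ∉ M := fun h => hx (pow_mem h p)
    have hxo : orderOf (x : G ⧸ M) = orderOf ((x : G ⧸ M) ^ p) := by
      rw [orderOf_eq_card_of_forall_mem_zpowers (hgen x hx0), ← QuotientGroup.mk_pow,
        orderOf_eq_card_of_forall_mem_zpowers (hgen _ hx)]
    obtain ⟨j, hj⟩ := IsPGroup.iff_orderOf.mp (hG.to_quotient M) (x : G ⧸ M)
    have hj0 : j ≠ 0 := by
      rintro rfl
      rw [pow_zero, orderOf_eq_one_iff, QuotientGroup.eq_one_iff] at hj
      exact hx0 hj
    rw [orderOf_pow_of_dvd hp.out.ne_zero (hj ▸ dvd_pow_self p hj0)] at hxo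
    rw [hj] at hxo
    have := Nat.div_lt_self (pow_pos hp.out.pos j) hp.out.one_lt
    omega
  obtain ⟨a, ha1, ha2⟩ : ∃ a ∈ M₁, a ∉ M₂ := SetLike.not_le_iff_exists.mp fun h =>
    hne (h.eq_or_lt.resolve_right fun hlt => h2.1 (h1.2 _ hlt))
  obtain ⟨b, hb2, hb1⟩ : ∃ b ∈ M₂, b ∉ M₁ := SetLike.not_le_iff_exists.mp fun h =>
    hne (h.eq_or_lt.resolve_right fun hlt => h1.1 (h2.2 _ hlt)).symm
  have hab1 : a * b ∉ M₁ := fun h => hb1 ((M₁.mul_mem_cancel_left ha1).mp h)
  have hab2 : a * b ∉ M₂ := fun h => ha2 ((M₂.mul_mem_cancel_right hb2).mp h)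
  set N := M₁ ⊓ M₂
  set K := N ⊔ zpowers (a * b) with hKdef
  have hKt : K ≠ ⊤ := by
    intro e
    obtain ⟨n, hn, z, hz, hnz⟩ := (mem_sup_of_normal_left (s := N) (t := zpowers (a * b))).mp
      (show a ∈ N ⊔ zpowers (a * b) by rw [← hKdef, e]; exact mem_top a)
    obtain ⟨j, rfl⟩ := mem_zpowers_iff.mp hz
    by_cases hpj : (p : ℤ) ∣ j
    · obtain ⟨i, rfl⟩ := hpj
      apply ha2
      rw [← hnz, zpow_mul, zpow_natCast]
      exact M₂.mul_mem hn.2 (zpow_mem (hpow M₂ h2 _) i)
    · have hz1 : (a * b) ^ j ∈ M₁ := (M₁.mul_mem_cancel_left hn.1).mp ((by rw [hnz]; exact ha1))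
      have hco : IsCoprime (p : ℤ) j :=
        (Prime.coprime_iff_not_dvd (Nat.prime_iff_prime_int.mp hp.out)).mpr hpj
      obtain ⟨u, w, huw⟩ := hco
      apply hab1
      have e1 : (a * b : G) = ((a * b) ^ p) ^ u * ((a * b) ^ j) ^ w := by
        rw [← zpow_natCast, ← zpow_mul, ← zpow_mul, ← zpow_add,
          show (p : ℤ) * u + j * w = 1 by linarith, zpow_one]
      rw [e1]
      exact M₁.mul_mem (zpow_mem (hpow M₁ h1 _) u) (zpow_mem hz1 w)
  obtain ⟨M, hM, hKM⟩ := (eq_top_or_exists_le_coatom K).resolve_left hKt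
  have habM : a * b ∈ M := hKM (mem_sup_right (mem_zpowers _))
  obtain ⟨g, hg | hg⟩ := hc M hM <;> rw [hg] at habM
  · have := conj_smul_le_iff.mp le_rfl _ habM
    exact hab1 (by simpa [mul_assoc] using Subgroup.Normal.conj_mem inferInstance _ this g)
  · have := conj_smul_le_iff.mp le_rfl _ habM
    exact hab2 (by simpa [mul_assoc] using Subgroup.Normal.conj_mem inferInstance _ this g)

theorem two_classes (M₁ M₂ : Subgroup G) (h1 : IsCoatom M₁) (h2 : IsCoatom M₂)
    (hne : ∀ g : G, M₂ ≠ MulAut.conj g • M₁) (hc : Cover M₁ M₂) :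
    Group.IsSolvable G ∧ (Nat.card G).primeFactors.card = 2 := by
  classical
  haveI hsol := isSolvable_of_cover (Nat.card G) G le_rfl M₁ M₂ hc
  refine ⟨hsol, ?_⟩
  have hmap : ∀ p ∈ (Nat.card G).primeFactors, ∃ i ∈ ({M₁.index, M₂.index} : Finset ℕ),
      i ≠ 1 ∧ ∀ r : ℕ, r.Prime → r ∣ i → r = p := by
    intro p hp
    obtain ⟨M, hM, hMi⟩ := exists_coatom_index_prime_pow (Nat.card G) G le_rfl p
      (Nat.prime_of_mem_primeFactors hp) (Nat.dvd_of_mem_primeFactors hp)
    refine ⟨M.index, ?_, fun e => hM.1 (index_eq_one.mp e), hMi⟩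
    simpa using index_eq_index_of_cover hc hM
  choose f hf hf1 hfp using hmap
  have hle : (Nat.card G).primeFactors.card ≤ 2 := by
    refine le_trans ?_ (Finset.card_le_two (a := M₁.index) (b := M₂.index))
    rw [← Finset.card_attach]
    refine Finset.card_le_card_of_injOn (fun p => f p.1 p.2) (fun p _ => hf p.1 p.2) ?_
    intro p _ q _ hpq
    obtain ⟨r, hr, hrd⟩ := Nat.exists_prime_and_dvd (hf1 p.1 p.2)
    exact Subtype.ext ((hfp p.1 p.2 r hr hrd).symm.trans
      (hfp q.1 q.2 r hr (by rw [show f p.1 p.2 = f q.1 q.2 from hpq] at hrd; exact hrd)))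
  have hne' : M₁ ≠ M₂ := fun e => hne 1 (by simp [e])
  haveI : Nontrivial G := ⟨by
    by_contra hcon
    push Not at hcon
    exact h1.1 (eq_top_iff.mpr fun x _ => hcon 1 x ▸ M₁.one_mem)⟩
  by_contra hcard
  have hpos : (Nat.card G).primeFactors.card ≠ 0 := by
    rw [Ne, Finset.card_eq_zero, Nat.primeFactors_eq_empty]
    have := Finite.one_lt_card (α := G)
    omega
  obtain ⟨p, hpeq⟩ := Finset.card_eq_one.mp (show (Nat.card G).primeFactors.card = 1 by omega)
  have hpp : p.Prime := Nat.prime_of_mem_primeFactors (hpeq ▸ Finset.mem_singleton_self p)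
  haveI := Fact.mk hpp
  refine not_pGroup_two (p := p) ?_ h1 h2 hne' hc
  refine IsPGroup.of_card (n := (Nat.card G).factorization p) ?_
  conv_lhs => rw [← Nat.prod_factorization_pow_eq_self (n := Nat.card G) Nat.card_pos.ne']
  rw [Nat.prod_factorization_eq_prod_primeFactors, hpeq, Finset.prod_singleton]

end H66.TwoMax
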